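import Cfsg.Agent.Fus.Comp

/-! A normal subsystem with trivial centralizer over a group whose automorphism group is a `p`-group. -/

set_option autoImplicit false
open Cfsg Subgroup

namespace CF.PsA
open CF.Fus Cfsg.FusionSystem

variable {Ω : Type*} [Group Ω] {S T P : Subgroup Ω} {F : FusionSystem S} {E : FusionSystem T} {p : ℕ}
  [Fact p.Prime]

theorem aut_triv (h : Nrm E F p) (hC : CE E F p = ⊥) (hA : IsPGroup p (F.autGroup T)) (hT : T ≤ P)
    (hP : P ≤ S) {γ : MulAut P} (hγ : γ ∈ F.autGroup P) (hc : (orderOf γ).Coprime p) :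
    ∀ x ∈ P, fn γ x = x := by
  have := h.satF.fin
  have a0 := sc_stab h.sc hP hγ
  have a1 := fun x => fn_res hT a0 (x := x)
  obtain ⟨j, a2⟩ := isPGroup_iff_mem.1 hA _ (res_mem_autGroup hT hP hγ a0)
  have a3 : ∀ x ∈ T, fn γ x = x := fun x hx => by
    rw [← a1 x hx, eq_one_of_ppow_of_coprime a2 (coprime_res hT a1 hc), fn_one]
  have a4 : ∀ x ∈ P, x⁻¹ * fn γ x ∈ CS S T := fun x hx => by
    refine mem_CS.2 ⟨mul_mem (S.inv_mem (hP hx)) (hP (fn_mem γ hx)), fun y hy => ?_⟩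
    have b := (mulOn_fn γ).map_conj hx (hT hy)
    rw [a3 _ (sc_mem_of_cj h.sc (hP hx) hy), a3 y hy] at b
    calc y * (x⁻¹ * fn γ x) = x⁻¹ * (x * y * x⁻¹) * fn γ x := by group
      _ = _ := by rw [b]; group
  have a5 : ∀ x ∈ P, x ∈ CS S T → x⁻¹ * fn γ x ∈ (⊥ : Subgroup Ω) := fun x hx hx' =>
    hC ▸ h.cmor_CE (P := P ⊓ CS S T) ⟨inf_le_right, fn γ,
      (mor_fn hP hγ).mono (sup_le inf_le_left hT), fun _ _ => rfl, a3⟩ ⟨hx, hx'⟩
  intro x hx
  have := fin_of_le hP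
  have := triv_of_triv (T := ⊥) (h.satF.pgroup hP) hc (stab_of_maps fun y _ hy => by
    rw [mem_bot.1 hy, (mulOn_fn γ).map_one]; exact one_mem _) a4 a5 x hx
  exact (inv_mul_eq_one.1 (mem_bot.1 this)).symm

theorem hyp_le_of_aut (h : Nrm E F p) (hC : CE E F p = ⊥) (hA : IsPGroup p (F.autGroup T)) :
    F.hyperfocalSubgroup p ≤ T := by
  have := h.satF.fin
  have := sc_normal h.sc
  obtain ⟨D, hD⟩ := exists_fac_mk' h.sc
  have a0 := mulOn_ext (QuotientGroup.mk' (T.subgroupOf S))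
  have a1 := ker_mk' h.sc.1
  generalize ext (QuotientGroup.mk' (T.subgroupOf S)) = t at a0 a1 hD
  have hK : F.StronglyClosed (pre t S ⊥) := a1.symm ▸ h.sc
  have a2 : D.hyperfocalSubgroup p ≤ ⊥ := hyp_le_iff.2 fun P' hP β hβ hc y hy => by
    have e := hD.img_pre hP
    rw [← hD.img_autGroup hK pre_le ker_le_pre e] at hβ
    have hm := hD.mulOn_indA hK pre_le ker_le_pre e
    obtain ⟨α, hα, rfl⟩ := hm.mem_img.1 hβ
    obtain ⟨l, hl, e'⟩ := hm.exists_coprime hα hc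
    obtain ⟨x, hx, rfl⟩ := hD.surj_pre hP hy
    obtain ⟨_, -, h2⟩ := hD.aut_push hK pre_le ker_le_pre e (pow_mem hα l)
    rw [← e', fn_indA h2 x hx, aut_triv h hC hA (a1.ge.trans ker_le_pre) pre_le (pow_mem hα l) hl x hx]
    simp
  rw [← (hD.smph h.satF hK).img_hyp] at a2
  exact a1 ▸ (a0.img_eq_bot_iff (hyp_le F)).1 (le_bot_iff.1 a2)

theorem hom_eq_of_aut (h : Nrm E F p) (hC : CE E F p = ⊥) (hA : IsPGroup p (F.autGroup T))
    (hy : F.hyperfocalSubgroup p = S) : ∀ P, E.Hom P = F.Hom P := by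
  obtain rfl : T = S := le_antisymm h.le (hy.ge.trans (hyp_le_of_aut h hC hA))
  rw [h.toInv.eq_of_aut ((h.satF.autGroup_top_eq hA).le.trans (Inn_le_autGroup E le_rfl))]
  exact fun _ => rfl

end CF.PsA
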