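import Cfsg.Agent.PsA.E
import Cfsg.Agent.PsA.F
import Cfsg.Agent.FusB.Dq4
import Cfsg.Agent.S3116
import Cfsg.Agent.S5093
import Cfsg.Agent.S5094
import Cfsg.Agent.Classical.SmallIso

/-! Normal subsystems of linear type with trivial centralizer in the 2-fusion system of a simple group. -/

set_option autoImplicit false
open Cfsg Subgroup CF.Fus Cfsg.FusionSystem

namespace CF.PsA

variable {F : Type*} [Field F] [Fintype F] {n : ℕ}

theorem aut_psl (hF : Odd (Fintype.card F)) (hn : 2 ≤ n)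
    (h8 : n = 2 → Fintype.card F % 8 = 1 ∨ Fintype.card F % 8 = 7)
    (T : Sylow 2 (Matrix.ProjectiveSpecialLinearGroup (Fin n) F)) : IsPGroup 2 (MulAut T) := by
  rcases hn.lt_or_eq with h | rfl
  · exact aut_psl3 hF h T
  have h2 := CF.Geom.two_ne_zero_of_odd_card hF
  obtain ⟨m, ⟨e⟩⟩ := CF.FusB.sylow_PSL2 h2 T
  refine Cfsg.Agent.S3116.result T.isPGroup' (.inl ⟨_, ?_, ⟨e⟩⟩)
  obtain ⟨s, h1⟩ : ∃ s, Nat.card F ^ 2 = 2 ^ (3 + 1) * s + 1 := by
    rw [Nat.card_eq_fintype_card]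
    rcases h8 rfl with h | h
    · exact ⟨4 * (Fintype.card F / 8) ^ 2 + Fintype.card F / 8, by
        nth_rewrite 1 [← Nat.div_add_mod (Fintype.card F) 8, h]; ring⟩
    · exact ⟨4 * (Fintype.card F / 8) ^ 2 + 7 * (Fintype.card F / 8) + 3, by
        nth_rewrite 1 [← Nat.div_add_mod (Fintype.card F) 8, h]; ring⟩
  have h3 := CF.FusB.card_PSL2' h2 h1
  have h4 : 2 ^ 3 ∣ Nat.card T := by
    rw [T.card_eq_multiplicity]
    exact pow_dvd_pow _ ((Nat.prime_two.pow_dvd_iff_le_factorization Nat.card_pos.ne').1 ⟨_, h3⟩)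
  rw [Nat.card_congr e.toEquiv, DihedralGroup.nat_card] at h4
  have := Nat.le_of_dvd (by positivity) h4
  omega

variable {G : Type*} [Group G] [Finite G]

theorem pRes_top [IsSimpleGroup G] (hG : ¬ IsMulCommutative G) : pResidual 2 G = ⊤ :=
  CF.Invol.pResidual_two_eq_top_iff.2 fun H hH => by
    rcases (normal_of_index_eq_two hH).eq_bot_or_eq_top with rfl | rfl
    · rw [index_bot] at hH
      exact hG (isCyclic_of_prime_card hH).isMulCommutative
    · simp at hH

theorem main [IsSimpleGroup G] (hG : ¬ IsMulCommutative G) (S : Sylow 2 G) (hF : Odd (Fintype.card F))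
    (hn : 2 ≤ n) (h8 : n = 2 → Fintype.card F % 8 = 1 ∨ Fintype.card F % 8 = 7) {T : Subgroup G}
    {E : FusionSystem T} (h : Nrm E (groupFusionSystem (S : Subgroup G)) 2)
    (hC : CE E (groupFusionSystem (S : Subgroup G)) 2 = ⊥)
    (hiso : ∃ ι : T →* Matrix.ProjectiveSpecialLinearGroup (Fin n) F, E.IsRealizedBy ι ∧
      ∃ T' : Sylow 2 (Matrix.ProjectiveSpecialLinearGroup (Fin n) F), (T' : Subgroup _) = ι.range) :
    ∃ ι : (S : Subgroup G) →* Matrix.ProjectiveSpecialLinearGroup (Fin n) F,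
      (groupFusionSystem (S : Subgroup G)).IsRealizedBy ι ∧
      ∃ T' : Sylow 2 (Matrix.ProjectiveSpecialLinearGroup (Fin n) F), (T' : Subgroup _) = ι.range := by
  obtain ⟨ι, h1, T', h2⟩ := hiso
  have a := hom_eq_of_aut h hC (((aut_psl hF hn h8 T').of_equiv (MulAut.congr
    ((MonoidHom.ofInjective h1.1).trans (MulEquiv.subgroupCongr h2.symm)).symm)).to_subgroup _)
    (by rw [Cfsg.Agent.S5093.result, pRes_top hG, inf_top_eq])
  obtain rfl := eq_of_hom_eq a
  exact ⟨ι, fs_ext a ▸ h1, T', h2⟩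

theorem center_bot (hF : Odd (Fintype.card F)) (hn : 2 ≤ n)
    (h8 : n = 2 → Fintype.card F % 8 = 1 ∨ Fintype.card F % 8 = 7) {T : Subgroup G} {E : FusionSystem T}
    (hiso : ∃ ι : T →* Matrix.ProjectiveSpecialLinearGroup (Fin n) F, E.IsRealizedBy ι ∧
      ∃ T' : Sylow 2 (Matrix.ProjectiveSpecialLinearGroup (Fin n) F), (T' : Subgroup _) = ι.range) :
    E.center = ⊥ := by
  obtain ⟨ι, h1, T', h2⟩ := hiso
  have a := (realized_iff ι (t := ext ι) (fun x => (ext_coe ι x).symm) h2.symm).1 h1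
  have hs : IsSimpleGroup (Matrix.ProjectiveSpecialLinearGroup (Fin n) F) := by
    rcases hn.lt_or_eq with h | rfl
    · exact CF.Classical.isSimpleGroup_PSL_of_three_le (by rw [Fintype.card_fin]; exact h)
    · refine CF.Classical.isSimpleGroup_PSL2 ?_
      have := Fintype.one_lt_card (α := F)
      have := h8 rfl
      rw [Nat.card_eq_fintype_card]; omega
  refine (a.piso.img_eq_bot_iff (center_le _)).1 ?_
  rw [a.img_center, ← group_eq_ofSubgroup, Cfsg.Agent.S5094.result]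
  generalize hY : comap (QuotientGroup.mk' (oddCore (Matrix.ProjectiveSpecialLinearGroup (Fin n) F))) _ = Y
  by_contra c
  obtain ⟨z, z1, z2, z3⟩ := exists_sq_mem (H := T') T'.isPGroup' (A := ⊥) (Y := Y.subgroupOf T')
    fun d => c (le_bot_iff.1 fun x hx => congrArg Subtype.val (mem_bot.1 (d (x := ⟨x, hx.1⟩) hx.2)))
  have o : orderOf z.1 = 2 := orderOf_eq_prime (by rw [pow_two]; exact congrArg Subtype.val (mem_bot.1 z3))
    fun e => z2 (mem_bot.2 (Subtype.ext e))
  have cm := CF.Char.comm_of_simple_of_inZStar o (CF.Char.inZStar_iff_mk_mem_center.2 (hY.ge z1))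
  refine CF.Invol.pResidual_two_eq_top_iff.1 (CF.FusB.pResidual_PSL (Fin n)
    (CF.Geom.two_ne_zero_of_odd_card hF)) ⊥ ?_
  have : (zpowers z.1).Normal := ⟨fun x hx g => by rwa [cm g, mul_inv_cancel_right]⟩
  rw [index_bot, ← o, ← Nat.card_zpowers, this.eq_bot_or_eq_top.resolve_left (by
    rw [zpowers_eq_bot, ← orderOf_eq_one_iff, o]; decide), card_top]

end CF.PsA
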